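import Groth.Prelude.Def_W4c5modbuncurvesppStab
import Groth.Agent.TreeLib.Graph
import Mathlib.Tactic

/-!
# Stability of sheaf data on a dual graph: splitting vertex sets
-/

set_option autoImplicit false

open Finset

universe u

namespace Groth.Agent.PhiStabLib

variable {V E : Type u} [Fintype V] [Fintype E] [DecidableEq V] [DecidableEq E] (ends : E → V × V)

/-- The edge joins the two sets. -/
def Btw (e : E) (A B : Finset V) : Prop :=
  ((ends e).1 ∈ A ∧ (ends e).2 ∈ B) ∨ ((ends e).1 ∈ B ∧ (ends e).2 ∈ A)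

/-- Edges of `T` leaving `S`. -/
def cross (T : Finset E) (S : Finset V) : Finset E :=
  T.filter fun e => ((ends e).1 ∈ S ∧ (ends e).2 ∉ S) ∨ ((ends e).1 ∉ S ∧ (ends e).2 ∈ S)

/-- `S` falls apart along `T`. -/
def Split (T : Finset E) (S : Finset V) : Prop :=
  ∃ A B : Finset V, A.Nonempty ∧ B.Nonempty ∧ Disjoint A B ∧ A ∪ B = S ∧ ∀ e ∈ T, ¬ Btw ends e A B

omit [Fintype E] in
lemma cross_compl (T : Finset E) (S : Finset V) : cross ends T Sᶜ = cross ends T S := by
  ext e; simp only [cross, mem_filter, mem_compl]; tauto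

lemma cut_eq (S : Finset V) : LabGraph.cut ends S = (cross ends univ S).card := rfl

omit [Fintype E] in
lemma cross_nonempty {T : Finset E} (hT : LabGraph.Connected (TreeLib.sub ends T)) {S : Finset V}
    (hne : S.Nonempty) (hpr : S ≠ univ) : (cross ends T S).Nonempty := by
  by_contra hc
  rw [not_nonempty_iff_eq_empty] at hc
  obtain ⟨s, hs⟩ := hne
  apply hpr
  rw [eq_univ_iff_forall]
  intro w
  induction hT.2 s w with
  | refl => exact hs
  | @tail a b _ hab ih =>
    obtain ⟨⟨e, he⟩, h⟩ := hab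
    by_contra hb
    have : e ∈ cross ends T S := by
      rcases h with h | h <;> simp only [TreeLib.sub] at h <;> simp [cross, he, h, ih, hb]
    rw [hc] at this
    exact Finset.notMem_empty e this

omit [Fintype E] in
lemma card_cross_lt {T : Finset E} (hT : LabGraph.Connected (TreeLib.sub ends T)) {A B : Finset V}
    (hA : A.Nonempty) (hB : B.Nonempty) (hd : Disjoint A B) (hno : ∀ e ∈ T, ¬ Btw ends e A B) :
    (cross ends T A).card < (cross ends T (A ∪ B)).card := by
  have hBu : B ≠ univ := fun h => by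
    obtain ⟨a, ha⟩ := hA
    exact disjoint_left.1 hd ha (h ▸ mem_univ a)
  obtain ⟨e, he⟩ := cross_nonempty ends hT hB hBu
  refine card_lt_card ⟨fun x hx => ?_, fun h => ?_⟩
  · simp only [cross, mem_filter, mem_union] at hx ⊢
    have h0 := hno x hx.1
    simp only [Btw] at h0
    rw [disjoint_left] at hd
    have := @hd (ends x).1
    have := @hd (ends x).2
    tauto
  · have he' : e ∈ cross ends T (A ∪ B) := by
      simp only [cross, mem_filter, mem_union] at he ⊢
      have h0 := hno e he.1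
      simp only [Btw] at h0
      rw [disjoint_left] at hd
      have := @hd (ends e).1
      have := @hd (ends e).2
      tauto
    have := h he'
    simp only [cross, mem_filter] at he this
    have h0 := hno e he.1
    simp only [Btw] at h0
    rw [disjoint_left] at hd
    have := @hd (ends e).1
    have := @hd (ends e).2
    tauto

omit [Fintype E] in
/-- Induction by splitting a vertex set or its complement. -/
theorem split_induction {T : Finset E} (hT : LabGraph.Connected (TreeLib.sub ends T)) (P : Finset V → Prop)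
    (base : ∀ S : Finset V, S.Nonempty → S ≠ univ → ¬ Split ends T S → ¬ Split ends T Sᶜ → P S)
    (union : ∀ A B : Finset V, Disjoint A B → (∀ e ∈ T, ¬ Btw ends e A B) → A.Nonempty → B.Nonempty →
      P A → P B → P (A ∪ B))
    (inter : ∀ A B : Finset V, Disjoint A B → (∀ e ∈ T, ¬ Btw ends e A B) → A.Nonempty → B.Nonempty →
      P Aᶜ → P Bᶜ → P (A ∪ B)ᶜ)
    (S : Finset V) (hne : S.Nonempty) (hpr : S ≠ univ) : P S := by
  induction hk : (cross ends T S).card using Nat.strong_induction_on generalizing S with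
  | _ k ih =>
    subst hk
    have key : ∀ A B : Finset V, A.Nonempty → B.Nonempty → Disjoint A B → (∀ e ∈ T, ¬ Btw ends e A B) →
        (cross ends T A).card < (cross ends T (A ∪ B)).card ∧ (cross ends T B).card < (cross ends T (A ∪ B)).card ∧
          A ≠ univ ∧ B ≠ univ := by
      intro A B hA hB hd hno
      refine ⟨card_cross_lt ends hT hA hB hd hno, ?_, fun h => ?_, fun h => ?_⟩
      · rw [union_comm]; exact card_cross_lt ends hT hB hA hd.symm fun e he h => hno e he (Or.symm h)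
      · obtain ⟨b, hb⟩ := hB; exact disjoint_right.1 hd hb (h ▸ mem_univ b)
      · obtain ⟨a, ha⟩ := hA; exact disjoint_left.1 hd ha (h ▸ mem_univ a)
    by_cases h1 : Split ends T S
    · obtain ⟨A, B, hA, hB, hd, rfl, hno⟩ := h1
      obtain ⟨hlA, hlB, huA, huB⟩ := key A B hA hB hd hno
      exact union A B hd hno hA hB (ih _ hlA A hA huA rfl) (ih _ hlB B hB huB rfl)
    by_cases h2 : Split ends T Sᶜ
    · obtain ⟨A, B, hA, hB, hd, hAB, hno⟩ := h2
      obtain ⟨hlA, hlB, huA, huB⟩ := key A B hA hB hd hno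
      rw [hAB, cross_compl] at hlA hlB
      have hS : S = (A ∪ B)ᶜ := by rw [hAB, compl_compl]
      rw [hS]
      refine inter A B hd hno hA hB (ih _ ?_ Aᶜ ?_ ?_ rfl) (ih _ ?_ Bᶜ ?_ ?_ rfl)
      · rwa [cross_compl]
      · exact nonempty_iff_ne_empty.2 fun h => huA (by rwa [compl_eq_empty_iff] at h)
      · exact fun h => hA.ne_empty (by rwa [compl_eq_univ_iff] at h)
      · rwa [cross_compl]
      · exact nonempty_iff_ne_empty.2 fun h => huB (by rwa [compl_eq_empty_iff] at h)
      · exact fun h => hB.ne_empty (by rwa [compl_eq_univ_iff] at h)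
    exact base S hne hpr h1 h2

/-- The excess of a datum on a vertex set. -/
noncomputable def exc (φ : V → ℝ) (m : V → ℤ) (N : Finset E) (S : Finset V) : ℝ :=
  (PhiStab.degOn ends m N S : ℝ) - (∑ v ∈ S, φ v) + (LabGraph.cut ends S : ℝ) / 2

lemma exc_eq (φ : V → ℝ) (m : V → ℤ) (N : Finset E) (S : Finset V) :
    exc ends φ m N S = (∑ v ∈ S, ((m v : ℝ) - φ v)) + ∑ e : E,
      ((if e ∈ N ∧ (ends e).1 ∈ S ∧ (ends e).2 ∈ S then (1 : ℝ) else 0) +
        (if ((ends e).1 ∈ S ∧ (ends e).2 ∉ S) ∨ ((ends e).1 ∉ S ∧ (ends e).2 ∈ S) then (1 : ℝ) else 0) / 2) := by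
  have h1 : N ∩ PhiStab.inner ends S = univ.filter fun e => e ∈ N ∧ (ends e).1 ∈ S ∧ (ends e).2 ∈ S := by
    ext e; simp [PhiStab.inner]
  rw [exc, PhiStab.degOn, LabGraph.cut, sum_sub_distrib, sum_add_distrib, ← sum_div, sum_boole, sum_boole, h1]
  push_cast
  ring

lemma exc_modular (φ : V → ℝ) (m : V → ℤ) (N : Finset E) (P Q : Finset V)
    (h : ∀ e, e ∉ N → ¬ Btw ends e (P \ Q) (Q \ P)) :
    exc ends φ m N (P ∪ Q) + exc ends φ m N (P ∩ Q) = exc ends φ m N P + exc ends φ m N Q := by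
  simp only [exc_eq]
  have hs := sum_union_inter (s₁ := P) (s₂ := Q) (f := fun v => (m v : ℝ) - φ v)
  have he : ∀ (g : Finset V → E → ℝ), (∀ e, g (P ∪ Q) e + g (P ∩ Q) e = g P e + g Q e) →
      (∑ e, g (P ∪ Q) e) + (∑ e, g (P ∩ Q) e) = (∑ e, g P e) + ∑ e, g Q e := fun g hg => by
    rw [← sum_add_distrib, ← sum_add_distrib]; exact sum_congr rfl fun e _ => hg e
  have := he (fun S e => (if e ∈ N ∧ (ends e).1 ∈ S ∧ (ends e).2 ∈ S then (1 : ℝ) else 0) +
        (if ((ends e).1 ∈ S ∧ (ends e).2 ∉ S) ∨ ((ends e).1 ∉ S ∧ (ends e).2 ∈ S) then (1 : ℝ) else 0) / 2)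
    fun e => by
      have := h e
      simp only [Btw, mem_sdiff] at this
      by_cases e ∈ N <;> by_cases (ends e).1 ∈ P <;> by_cases (ends e).1 ∈ Q <;>
        by_cases (ends e).2 ∈ P <;> by_cases (ends e).2 ∈ Q <;> simp_all <;> norm_num
  linarith

lemma exc_empty (φ : V → ℝ) (m : V → ℤ) (N : Finset E) : exc ends φ m N ∅ = 0 := by
  simp [exc_eq]

lemma exc_univ (φ : V → ℝ) (m : V → ℤ) (N : Finset E) :
    exc ends φ m N univ = (PhiStab.totDeg m N : ℝ) - ∑ v, φ v := by
  rw [exc_eq, PhiStab.totDeg]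
  simp [sum_sub_distrib]
  ring

lemma exc_add_compl (φ : V → ℝ) (m : V → ℤ) (N : Finset E) (S : Finset V) :
    exc ends φ m N S + exc ends φ m N Sᶜ =
      (PhiStab.totDeg m N : ℝ) - (∑ v, φ v) + ((cross ends Nᶜ S).card : ℝ) := by
  rw [exc_eq, exc_eq]
  have hs := sum_add_sum_compl S (fun v => (m v : ℝ) - φ v)
  have hN : ((N.card : ℤ) : ℝ) = ∑ e : E, if e ∈ N then (1 : ℝ) else 0 := by simp [sum_boole]
  have hc : ((cross ends Nᶜ S).card : ℝ) = ∑ e : E,
      if e ∉ N ∧ (((ends e).1 ∈ S ∧ (ends e).2 ∉ S) ∨ ((ends e).1 ∉ S ∧ (ends e).2 ∈ S)) then (1 : ℝ) else 0 := by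
    rw [sum_boole]
    congr 2
    ext e; simp [cross]
  have he : ∀ e : E,
      ((if e ∈ N ∧ (ends e).1 ∈ S ∧ (ends e).2 ∈ S then (1 : ℝ) else 0) +
        (if ((ends e).1 ∈ S ∧ (ends e).2 ∉ S) ∨ ((ends e).1 ∉ S ∧ (ends e).2 ∈ S) then (1 : ℝ) else 0) / 2) +
      ((if e ∈ N ∧ (ends e).1 ∈ Sᶜ ∧ (ends e).2 ∈ Sᶜ then (1 : ℝ) else 0) +
        (if ((ends e).1 ∈ Sᶜ ∧ (ends e).2 ∉ Sᶜ) ∨ ((ends e).1 ∉ Sᶜ ∧ (ends e).2 ∈ Sᶜ) then (1 : ℝ) else 0) / 2) =
      (if e ∈ N then (1 : ℝ) else 0) +
      (if e ∉ N ∧ (((ends e).1 ∈ S ∧ (ends e).2 ∉ S) ∨ ((ends e).1 ∉ S ∧ (ends e).2 ∈ S)) then (1 : ℝ) else 0) :=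
    fun e => by
      by_cases e ∈ N <;> by_cases (ends e).1 ∈ S <;> by_cases (ends e).2 ∈ S <;> simp_all <;> norm_num
  have he' := sum_congr (rfl : (univ : Finset E) = univ) fun e _ => he e
  rw [sum_add_distrib, sum_add_distrib (f := fun e : E => if e ∈ N then (1 : ℝ) else 0)] at he'
  rw [PhiStab.totDeg, Int.cast_add, hN, hc, Int.cast_sum]
  rw [sum_sub_distrib] at hs ⊢
  rw [sum_sub_distrib]
  simp only [sum_sub_distrib] at hs
  linarith

lemma isSemistable_iff (φ : V → ℝ) (m : V → ℤ) (N : Finset E) :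
    PhiStab.IsSemistable ends φ m N ↔ ∀ S : Finset V, S.Nonempty → S ≠ univ → 0 ≤ exc ends φ m N S := by
  refine forall_congr' fun S => forall_congr' fun _ => forall_congr' fun _ => ?_
  rw [exc]; constructor <;> intro h <;> linarith

lemma isStable_iff (φ : V → ℝ) (m : V → ℤ) (N : Finset E) :
    PhiStab.IsStable ends φ m N ↔ ∀ S : Finset V, S.Nonempty → S ≠ univ → 0 < exc ends φ m N S := by
  refine forall_congr' fun S => forall_congr' fun _ => forall_congr' fun _ => ?_
  rw [exc]; constructor <;> intro h <;> linarith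

lemma exc_union_of (φ : V → ℝ) (m : V → ℤ) (N : Finset E) (T : Finset E) (hNT : ∀ e, e ∉ N → e ∈ T)
    (A B : Finset V) (hd : Disjoint A B) (hno : ∀ e ∈ T, ¬ Btw ends e A B) :
    exc ends φ m N (A ∪ B) = exc ends φ m N A + exc ends φ m N B ∧
      exc ends φ m N (A ∪ B)ᶜ + exc ends φ m N univ = exc ends φ m N Aᶜ + exc ends φ m N Bᶜ := by
  constructor
  · have := exc_modular ends φ m N A B fun e he h => hno e (hNT e he)
      (by rwa [sdiff_eq_self_of_disjoint hd, sdiff_eq_self_of_disjoint hd.symm] at h)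
    rw [disjoint_iff_inter_eq_empty.1 hd, exc_empty, add_zero] at this
    exact this
  · have h1 : Aᶜ \ Bᶜ = B := by
      ext v; simp only [mem_sdiff, mem_compl, not_not]
      exact ⟨fun h => h.2, fun h => ⟨fun ha => disjoint_left.1 hd ha h, h⟩⟩
    have h2 : Bᶜ \ Aᶜ = A := by
      ext v; simp only [mem_sdiff, mem_compl, not_not]
      exact ⟨fun h => h.2, fun h => ⟨fun hb => disjoint_left.1 hd h hb, h⟩⟩
    have := exc_modular ends φ m N Aᶜ Bᶜ fun e he h => hno e (hNT e he) (by rw [h1, h2] at h; exact Or.symm h)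
    rw [← compl_inter, disjoint_iff_inter_eq_empty.1 hd, compl_empty, ← compl_union] at this
    linarith

/-- An unsplittable set induces a connected subgraph. -/
lemma connected_indEnds {S : Finset V} (hne : S.Nonempty) (h : ¬ Split ends univ S) :
    LabGraph.Connected (PhiStab.indEnds ends S) := by
  obtain ⟨s, hs⟩ := hne
  haveI : Nonempty {v : V // v ∈ S} := ⟨⟨s, hs⟩⟩
  rcases TreeLib.connected_or_cut (PhiStab.indEnds ends S) ⟨s, hs⟩ with hc | ⟨A, hsA, hA, hcut⟩
  · exact hc
  refine absurd ⟨A.map (Function.Embedding.subtype _), S \ A.map (Function.Embedding.subtype _), hA.map,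
    ⟨s, by simp [hs, hsA]⟩, disjoint_sdiff, union_sdiff_of_subset (map_subtype_subset A), fun e _ he => ?_⟩ h
  simp only [Btw, mem_sdiff, mem_map, Function.Embedding.coe_subtype] at he
  rcases he with ⟨⟨a, ha, ha'⟩, hb, hb'⟩ | ⟨⟨hb, hb'⟩, a, ha, ha'⟩
  · have hin : e ∈ PhiStab.inner ends S := by simp [PhiStab.inner, hb, ← ha', a.2]
    refine hb' ⟨_, (hcut ⟨e, hin⟩).1 ?_, rfl⟩
    convert ha
    exact Subtype.ext ha'.symm
  · have hin : e ∈ PhiStab.inner ends S := by simp [PhiStab.inner, hb, ← ha', a.2]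
    refine hb' ⟨_, (hcut ⟨e, hin⟩).2 ?_, rfl⟩
    convert ha
    exact Subtype.ext ha'.symm

variable {T : Finset E}

/-- Joined without using `e`. -/
abbrev Reach (T : Finset E) (e : E) : V → V → Prop :=
  Relation.ReflTransGen (LabGraph.Adj (TreeLib.sub ends (T.erase e)))

omit [Fintype V] [Fintype E] [DecidableEq V] in
lemma reach_or (hT : LabGraph.Connected (TreeLib.sub ends T)) (e : E) (v : V) :
    Reach ends T e (ends e).1 v ∨ Reach ends T e (ends e).2 v := by
  induction hT.2 (ends e).1 v with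
  | refl => exact Or.inl Relation.ReflTransGen.refl
  | @tail a b _ hab ih =>
    obtain ⟨⟨x, hx⟩, h⟩ := hab
    by_cases hxe : x = e
    · subst hxe
      rcases h with h | h <;> simp only [TreeLib.sub] at h <;> rw [h]
      · exact Or.inr Relation.ReflTransGen.refl
      · exact Or.inl Relation.ReflTransGen.refl
    · have hab' : LabGraph.Adj (TreeLib.sub ends (T.erase e)) a b := ⟨⟨x, mem_erase.2 ⟨hxe, hx⟩⟩, h⟩
      exact ih.imp (fun h => h.tail hab') (fun h => h.tail hab')

omit [Fintype V] [Fintype E] [DecidableEq V] in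
lemma reach_symm {e : E} {a b : V} (h : Reach ends T e a b) : Reach ends T e b a := by
  induction h with
  | refl => exact Relation.ReflTransGen.refl
  | tail _ hab ih => exact Relation.ReflTransGen.head (TreeLib.adj_symm _ hab) ih

lemma not_reach_ends (hT : DualGr.IsTree (TreeLib.sub ends T)) {e : E} (he : e ∈ T) :
    ¬ Reach ends T e (ends e).1 (ends e).2 := by
  intro h
  have hconn : LabGraph.Connected (TreeLib.sub ends (T.erase e)) := by
    have all : ∀ v, Reach ends T e (ends e).1 v := fun v => (reach_or ends hT.1 e v).elim id fun h' => h.trans h'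
    exact ⟨hT.1.1, fun v w => (reach_symm ends (all v)).trans (all w)⟩
  have h1 := TreeLib.card_le_of_connected _ hconn
  have h2 := ((TreeLib.isSpanningTree_iff ends T).1 hT).2
  rw [Fintype.card_coe, card_erase_of_mem he] at h1
  have := card_pos.2 ⟨e, he⟩
  omega

open Classical in
/-- One side of an edge in the graph `T`. -/
noncomputable def tside (T : Finset E) (e : E) : Finset V :=
  univ.filter fun v => Reach ends T e (ends e).1 v

lemma mem_tside {e : E} {v : V} : v ∈ tside ends T e ↔ Reach ends T e (ends e).1 v := by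
  simp [tside]

lemma fst_mem_tside (e : E) : (ends e).1 ∈ tside ends T e := (mem_tside ends).2 Relation.ReflTransGen.refl

lemma snd_not_mem_tside (hT : DualGr.IsTree (TreeLib.sub ends T)) {e : E} (he : e ∈ T) :
    (ends e).2 ∉ tside ends T e := fun h => not_reach_ends ends hT he ((mem_tside ends).1 h)

lemma tside_iff {e x : E} (hx : x ∈ T) (hxe : x ≠ e) :
    (ends x).1 ∈ tside ends T e ↔ (ends x).2 ∈ tside ends T e := by
  have h : LabGraph.Adj (TreeLib.sub ends (T.erase e)) (ends x).1 (ends x).2 :=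
    ⟨⟨x, mem_erase.2 ⟨hxe, hx⟩⟩, Or.inl rfl⟩
  simp only [mem_tside]
  exact ⟨fun h' => h'.tail h, fun h' => h'.tail (TreeLib.adj_symm _ h)⟩

lemma cross_tside (hT : DualGr.IsTree (TreeLib.sub ends T)) {e : E} (he : e ∈ T) :
    cross ends T (tside ends T e) = {e} := by
  ext x
  simp only [cross, mem_filter, mem_singleton]
  refine ⟨fun h => ?_, ?_⟩
  · by_contra hxe
    have := tside_iff ends (e := e) h.1 hxe
    tauto
  · rintro rfl
    exact ⟨he, Or.inl ⟨fst_mem_tside ends _, snd_not_mem_tside ends hT he⟩⟩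

/-- An unsplittable bipartition of a tree is given by an edge. -/
lemma eq_tside (hT : DualGr.IsTree (TreeLib.sub ends T)) {S : Finset V} (hne : S.Nonempty) (hpr : S ≠ univ)
    (h1 : ¬ Split ends T S) (h2 : ¬ Split ends T Sᶜ) :
    ∃ e ∈ T, S = tside ends T e ∨ Sᶜ = tside ends T e := by
  obtain ⟨e, he⟩ := cross_nonempty ends hT.1 hne hpr
  rw [cross, mem_filter] at he
  refine ⟨e, he.1, ?_⟩
  have main : ∀ S : Finset V, (ends e).1 ∈ S → (ends e).2 ∉ S → ¬ Split ends T S → ¬ Split ends T Sᶜ →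
      S = tside ends T e := by
    intro S he1 he2 h1 h2
    have hsub : S ⊆ tside ends T e := fun v hv => by
      by_contra hvn
      refine h1 ⟨S ∩ tside ends T e, S \ tside ends T e, ⟨_, mem_inter.2 ⟨he1, fst_mem_tside ends e⟩⟩,
        ⟨v, mem_sdiff.2 ⟨hv, hvn⟩⟩, disjoint_left.2 fun a ha hb => (mem_sdiff.1 hb).2 (mem_inter.1 ha).2, ?_, ?_⟩
      · ext a; simp only [mem_union, mem_inter, mem_sdiff]; tauto
      · intro x hx hb
        simp only [Btw, mem_inter, mem_sdiff] at hb
        rcases eq_or_ne x e with rfl | hxe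
        · tauto
        · have := tside_iff ends (e := e) hx hxe
          tauto
    refine Subset.antisymm hsub fun v hv => ?_
    by_contra hvn
    refine h2 ⟨Sᶜ ∩ tside ends T e, Sᶜ \ tside ends T e, ⟨v, mem_inter.2 ⟨mem_compl.2 hvn, hv⟩⟩,
      ⟨_, mem_sdiff.2 ⟨mem_compl.2 he2, snd_not_mem_tside ends hT he.1⟩⟩,
      disjoint_left.2 fun a ha hb => (mem_sdiff.1 hb).2 (mem_inter.1 ha).2, ?_, ?_⟩
    · ext a; simp only [mem_union, mem_inter, mem_sdiff]; tauto
    · intro x hx hb
      simp only [Btw, mem_inter, mem_sdiff, mem_compl] at hb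
      rcases eq_or_ne x e with rfl | hxe
      · tauto
      · have := tside_iff ends (e := e) hx hxe
        tauto
  rcases he.2 with ⟨a, b⟩ | ⟨a, b⟩
  · exact Or.inl (main S a b h1 h2)
  · exact Or.inr (main Sᶜ (mem_compl.2 a) (by simpa using b) h2 (by rwa [compl_compl]))

/-- Prescribed sums over the sides of a tree and over all vertices. -/
theorem existsUnique_sums {R : Type*} [CommRing R] (hT : DualGr.IsTree (TreeLib.sub ends T)) (c : E → R) (c₀ : R) :
    ∃! φ : V → R, (∀ e ∈ T, (∑ v ∈ tside ends T e, φ v) = c e) ∧ (∑ v, φ v) = c₀ := by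
  classical
  obtain ⟨r⟩ := hT.1.1
  let w : E → R := fun e => c e - (if r ∈ tside ends T e then c₀ else 0)
  let φ : V → R := fun v => (if r = v then c₀ else 0) +
    ∑ x ∈ T, w x * ((if (ends x).1 = v then 1 else 0) - (if (ends x).2 = v then 1 else 0))
  have hsum : ∀ S : Finset V, (∑ v ∈ S, φ v) = (if r ∈ S then c₀ else 0) +
      ∑ x ∈ T, w x * ((if (ends x).1 ∈ S then 1 else 0) - (if (ends x).2 ∈ S then 1 else 0)) := by
    intro S
    show (∑ v ∈ S, (_ + _)) = _
    rw [sum_add_distrib, sum_comm, sum_ite_eq]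
    congr 1
    refine sum_congr rfl fun x _ => ?_
    rw [← mul_sum, sum_sub_distrib, sum_ite_eq, sum_ite_eq]
  refine ⟨φ, ⟨fun e he => ?_, ?_⟩, fun ψ hψ => ?_⟩
  · rw [hsum, sum_eq_single e (fun x hx hxe => ?_) (fun h => absurd he h),
      if_pos (fst_mem_tside ends e), if_neg (snd_not_mem_tside ends hT he)]
    · simp [w]
    · rw [if_congr (tside_iff ends hx hxe) rfl rfl, sub_self, mul_zero]
  · rw [hsum]; simp
  · have hφ : ∀ e ∈ T, (∑ v ∈ tside ends T e, φ v) = c e := fun e he => by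
      rw [hsum, sum_eq_single e (fun x hx hxe => ?_) (fun h => absurd he h),
        if_pos (fst_mem_tside ends e), if_neg (snd_not_mem_tside ends hT he)]
      · simp [w]
      · rw [if_congr (tside_iff ends hx hxe) rfl rfl, sub_self, mul_zero]
    have htot : (∑ v, φ v) = c₀ := by rw [hsum]; simp
    let δ : V → R := fun v => ψ v - φ v
    have hδu : (∑ v, δ v) = 0 := by rw [sum_sub_distrib, hψ.2, htot, sub_self]
    have hcompl : ∀ S : Finset V, (∑ v ∈ Sᶜ, δ v) = -(∑ v ∈ S, δ v) := fun S => by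
      rw [eq_neg_iff_add_eq_zero, sum_compl_add_sum, hδu]
    have hall : ∀ S : Finset V, S.Nonempty → S ≠ univ → (∑ v ∈ S, δ v) = 0 := by
      refine split_induction ends hT.1 (fun S => (∑ v ∈ S, δ v) = 0) ?_ ?_ ?_
      · intro S hne hpr h1 h2
        obtain ⟨e, he, h | h⟩ := eq_tside ends hT hne hpr h1 h2
        · rw [h, sum_sub_distrib, hψ.1 e he, hφ e he, sub_self]
        · rw [← neg_eq_zero, ← hcompl, h, sum_sub_distrib, hψ.1 e he, hφ e he, sub_self]
      · intro A B hd _ _ _ hA hB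
        rw [sum_union hd, hA, hB, add_zero]
      · intro A B hd _ _ _ hA hB
        rw [hcompl, neg_eq_zero] at hA hB
        rw [hcompl, sum_union hd, hA, hB, add_zero, neg_zero]
    funext v
    refine sub_eq_zero.1 ?_
    show δ v = 0
    by_cases h : ({v} : Finset V) = univ
    · rw [← hδu, ← h, sum_singleton]
    · simpa using hall {v} (singleton_nonempty v) h

/-- Semistability of a datum whose non-free edges are the complement of a tree may be tested on sides. -/
theorem semistable_of_tree (hT : DualGr.IsTree (TreeLib.sub ends T)) (φ : V → ℝ) (m : V → ℤ)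
    (hdeg : (PhiStab.totDeg m Tᶜ : ℝ) = ∑ v, φ v)
    (h : ∀ e ∈ T, 0 ≤ exc ends φ m Tᶜ (tside ends T e) ∧ exc ends φ m Tᶜ (tside ends T e) ≤ 1) :
    PhiStab.IsSemistable ends φ m Tᶜ := by
  have hu : exc ends φ m Tᶜ univ = 0 := by rw [exc_univ, hdeg, sub_self]
  rw [isSemistable_iff]
  refine split_induction ends hT.1 (fun S => 0 ≤ exc ends φ m Tᶜ S) ?_ ?_ ?_
  · intro S hne hpr h1 h2
    obtain ⟨e, he, hS | hS⟩ := eq_tside ends hT hne hpr h1 h2
    · rw [hS]; exact (h e he).1
    · have := exc_add_compl ends φ m Tᶜ S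
      rw [hS, hdeg, compl_compl, ← cross_compl ends T S, hS, cross_tside ends hT he, card_singleton,
        Nat.cast_one] at this
      linarith [(h e he).2]
  · intro A B hd hno _ _ hA hB
    have := (exc_union_of ends φ m Tᶜ T (fun e he => by simpa using he) A B hd hno).1
    linarith
  · intro A B hd hno _ _ hA hB
    have := (exc_union_of ends φ m Tᶜ T (fun e he => by simpa using he) A B hd hno).2
    linarith

/-- Existence and uniqueness of the stable datum of a spanning tree. -/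
theorem existsUnique_stable (hT : DualGr.IsTree (TreeLib.sub ends T)) (b : ℤ) (φ : V → ℝ)
    (hφ : (∑ v, φ v) = (b : ℝ)) (hnd : PhiStab.Nondegenerate ends φ) :
    ∃! m : V → ℤ, PhiStab.totDeg m Tᶜ = b ∧ PhiStab.IsStable ends φ m Tᶜ := by
  classical
  let x : E → ℝ := fun e => (∑ v ∈ tside ends T e, φ v) - (LabGraph.cut ends (tside ends T e) : ℝ) / 2
  let n : E → ℤ := fun e => ((Tᶜ ∩ PhiStab.inner ends (tside ends T e)).card : ℤ)
  have hexc : ∀ m e, exc ends φ m Tᶜ (tside ends T e) = ((∑ v ∈ tside ends T e, m v : ℤ) : ℝ) + (n e : ℝ) - x e := by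
    intro m e
    simp only [exc, PhiStab.degOn, x, n]
    push_cast
    ring
  obtain ⟨m, ⟨hm, hmt⟩, huniq⟩ := existsUnique_sums ends hT (fun e => ⌈x e⌉ - n e) (b - (Tᶜ.card : ℤ))
  have htot : PhiStab.totDeg m Tᶜ = b := by rw [PhiStab.totDeg, hmt]; ring
  have hss : PhiStab.IsSemistable ends φ m Tᶜ := by
    refine semistable_of_tree ends hT φ m (by rw [htot, hφ]) fun e he => ?_
    rw [hexc, hm e he]
    have := Int.le_ceil (x e)
    have := Int.ceil_lt_add_one (x e)
    push_cast
    constructor <;> linarith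
  refine ⟨m, ⟨htot, hnd m Tᶜ (by rw [htot, hφ]) hss⟩, fun m' ⟨ht', hst'⟩ => huniq m' ⟨fun e he => ?_, ?_⟩⟩
  · have hne : (tside ends T e).Nonempty := ⟨_, fst_mem_tside ends e⟩
    have hpr : tside ends T e ≠ univ := fun h => snd_not_mem_tside ends hT he (h ▸ mem_univ _)
    have h1 := (isStable_iff ends φ m' Tᶜ).1 hst' _ hne hpr
    have h2 := (isStable_iff ends φ m' Tᶜ).1 hst' (tside ends T e)ᶜ
      ⟨_, mem_compl.2 (snd_not_mem_tside ends hT he)⟩ (fun h => hne.ne_empty (by rwa [compl_eq_univ_iff] at h))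
    have h3 := exc_add_compl ends φ m' Tᶜ (tside ends T e)
    rw [ht', hφ, sub_self, zero_add, compl_compl, cross_tside ends hT he, card_singleton, Nat.cast_one] at h3
    rw [hexc] at h1 h3
    rw [eq_sub_iff_add_eq, eq_comm, Int.ceil_eq_iff]
    push_cast at *
    constructor <;> linarith
  · rw [← ht', PhiStab.totDeg]; ring

end Groth.Agent.PhiStabLib
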